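import Cfsg.Agent.H770.CY.Defs
import Cfsg.Agent.Characters.Core

/-!
# S4829: the two forms of "multiplicity free" (helper125)

* `mf_of_sum` : a sum of different nontrivial `Cyc p` irreducible characters satisfies the field `mf` of `WitA`;
* `exists_sum` : the converse;
* `WitA.of_sum`, `WitA.exists_sum`.
-/

set_option autoImplicit false

open scoped ComplexConjugate

namespace Cfsg.Agent.H125.CY

open Cfsg Cfsg.Agent.H770.CY Cfsg.Agent.Characters

universe u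

variable {p : ℕ} {S : Type u} [Group S] [Fintype S]

theorem mul_eq (ψ θ : S → ℂ) : mul ψ θ = classInner ψ θ := rfl

/-- a sum of different nontrivial `Cyc p` irreducible characters -/
theorem mf_of_sum {ψ : S → ℂ} {J : Type*} [Fintype J] (θ : J → IrrCharacter S) (hinj : Function.Injective θ)
    (hθ : ∀ j, ((θ j : IrrCharacter S) : S → ℂ) ≠ (fun _ => 1) ∧ Cyc p ((θ j : IrrCharacter S) : S → ℂ))
    (hs : ∀ s, ψ s = ∑ j, ((θ j : IrrCharacter S) : S → ℂ) s) (η : IrrCharacter S) :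
    mul ψ (η : S → ℂ) = 0 ∨ (mul ψ (η : S → ℂ) = 1 ∧ (η : S → ℂ) ≠ (fun _ => 1) ∧ Cyc p (η : S → ℂ)) := by
  classical
  have h1 : ψ = ∑ j, ((θ j : IrrCharacter S) : S → ℂ) := by
    funext s
    rw [Finset.sum_apply]
    exact hs s
  have h2 : mul ψ (η : S → ℂ) = ∑ j, classInner ((θ j : IrrCharacter S) : S → ℂ) (η : S → ℂ) := by
    rw [mul_eq, h1, Core.classInner_sum_left]
  by_cases h : ∃ j, θ j = η
  · obtain ⟨j, rfl⟩ := h
    right
    refine ⟨?_, hθ j⟩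
    rw [h2, Finset.sum_eq_single j]
    · exact Core.classInner_irr_self (θ j).2
    · intro i _ hi
      exact Core.classInner_irr_ne (θ i).2 (θ j).2 fun h => hi (hinj (Subtype.ext h))
    · intro h
      exact absurd (Finset.mem_univ j) h
  · left
    push Not at h
    rw [h2]
    exact Finset.sum_eq_zero fun j _ => Core.classInner_irr_ne (θ j).2 η.2 fun h3 => h j (Subtype.ext h3)

/-- the converse -/
theorem exists_sum {ψ : S → ℂ} (hψ : IsClassFunction S ψ)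
    (hm : ∀ θ : IrrCharacter S, mul ψ (θ : S → ℂ) = 0 ∨
      (mul ψ (θ : S → ℂ) = 1 ∧ (θ : S → ℂ) ≠ (fun _ => 1) ∧ Cyc p (θ : S → ℂ))) :
    ∃ (J : Type u) (_ : Fintype J) (θ : J → IrrCharacter S), Function.Injective θ ∧
      (∀ j, ((θ j : IrrCharacter S) : S → ℂ) ≠ (fun _ => 1) ∧ Cyc p ((θ j : IrrCharacter S) : S → ℂ)) ∧
      ∀ s, ψ s = ∑ j, ((θ j : IrrCharacter S) : S → ℂ) s := by
  classical
  have : Finite (IrrCharacter S) := Core.finite_irr
  have := Fintype.ofFinite (IrrCharacter S)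
  refine ⟨{θ : IrrCharacter S // mul ψ (θ : S → ℂ) ≠ 0}, inferInstance, fun j => j.1, Subtype.val_injective,
    fun j => ((hm j.1).resolve_left j.2).2, fun s => ?_⟩
  have h1 := congrFun (Core.classFunction_eq_sum hψ) s
  rw [Finset.sum_apply] at h1
  have h2 : ∑ j : {θ : IrrCharacter S // mul ψ (θ : S → ℂ) ≠ 0}, ((j.1 : IrrCharacter S) : S → ℂ) s =
      ∑ θ ∈ Finset.univ.filter (fun θ : IrrCharacter S => mul ψ (θ : S → ℂ) ≠ 0), (θ : S → ℂ) s :=
    (Finset.sum_subtype _ (fun θ => by simp) (fun θ : IrrCharacter S => (θ : S → ℂ) s)).symm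
  rw [h1]
  refine Eq.trans ?_ h2.symm
  rw [Finset.sum_filter]
  refine Finset.sum_congr rfl fun θ _ => ?_
  rw [Pi.smul_apply, smul_eq_mul, ← mul_eq]
  rcases hm θ with h3 | ⟨h3, -⟩
  · rw [h3, zero_mul, if_neg (fun h => h rfl)]
  · rw [h3, one_mul, if_pos one_ne_zero]

variable {M : Ideal AlgInt} {A : Subgroup (MulAut S)} {hA : ∀ s : S, MulAut.conj s ∈ A} {Ψ : A → ℂ}

/-- the witness from a sum of different characters -/
theorem witA_of_sum (char : IsCharacter A Ψ) (cyc : Cyc p Ψ) (deg : ∃ n : ℕ, Ψ 1 = n ∧ ¬ p ∣ n)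
    {J : Type*} [Fintype J] (θ : J → IrrCharacter S) (hinj : Function.Injective θ)
    (hθ : ∀ j, ((θ j : IrrCharacter S) : S → ℂ) ≠ (fun _ => 1) ∧ Cyc p ((θ j : IrrCharacter S) : S → ℂ))
    (hs : ∀ s : S, Ψ ⟨MulAut.conj s, hA s⟩ = ∑ j, ((θ j : IrrCharacter S) : S → ℂ) s)
    (loc : ∀ a : A, ¬ p ∣ orderOf a → (∃ Q : Sylow p S, ∀ x ∈ Q, (a : MulAut S) x = x) → MemLocalIdeal M (Ψ a - Ψ 1)) :
    WitA p M S A hA Ψ :=
  ⟨char, cyc, deg, mf_of_sum θ hinj hθ hs, loc⟩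

/-- one irreducible character -/
theorem witA_of_irr (char : IsCharacter A Ψ) (cyc : Cyc p Ψ) (deg : ∃ n : ℕ, Ψ 1 = n ∧ ¬ p ∣ n)
    (θ : IrrCharacter S) (hθ : (θ : S → ℂ) ≠ (fun _ => 1)) (hc : Cyc p (θ : S → ℂ))
    (hs : ∀ s : S, Ψ ⟨MulAut.conj s, hA s⟩ = (θ : S → ℂ) s)
    (loc : ∀ a : A, ¬ p ∣ orderOf a → (∃ Q : Sylow p S, ∀ x ∈ Q, (a : MulAut S) x = x) → MemLocalIdeal M (Ψ a - Ψ 1)) :
    WitA p M S A hA Ψ :=
  witA_of_sum char cyc deg (J := Unit) (fun _ => θ) (fun _ _ _ => rfl) (fun _ => ⟨hθ, hc⟩) (fun s => by simp [hs]) loc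

theorem isClassFunction_res (h : WitA p M S A hA Ψ) : IsClassFunction S (res hA Ψ) := by
  have h1 : IsCharacter S (res hA Ψ) := by
    let f : S →* A := (MulAut.conj : S →* MulAut S).codRestrict A hA
    exact Core.isCharacter_comp f h.char
  exact Core.isCharacter_isClassFunction h1

/-- the restriction of a witness to `S` is a sum of different characters -/
theorem WitA_exists_sum (h : WitA p M S A hA Ψ) :
    ∃ (J : Type u) (_ : Fintype J) (θ : J → IrrCharacter S), Function.Injective θ ∧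
      (∀ j, ((θ j : IrrCharacter S) : S → ℂ) ≠ (fun _ => 1) ∧ Cyc p ((θ j : IrrCharacter S) : S → ℂ)) ∧
      ∀ s : S, Ψ ⟨MulAut.conj s, hA s⟩ = ∑ j, ((θ j : IrrCharacter S) : S → ℂ) s :=
  exists_sum (isClassFunction_res h) h.mf

end Cfsg.Agent.H125.CY
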