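import Cfsg.Agent.H125.CY.Virt
import Cfsg.Agent.H598.CY.Two

/-!
# S4829: assembly of a row with graph automorphisms (helper125)

`B ≤ Aut S` (type preserving automorphisms), of index at most two in every `A`, acts on the sets `X j` preserving the
`S`-orbitals; the virtual permutation character `∑ ε j π_{X j}` is irreducible on `S`, of multiplicity one in `C[Y]`,
`Y` an `Aut S`-set; the number `∑ ε j |Fix_{X j} a|` is constant modulo `p` on the `a ∈ B` which centralize a Sylow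
subgroup.  Then there is a witness for `A`.
-/

set_option autoImplicit false

namespace Cfsg.Agent.H125.CY

open MulAction Cfsg Cfsg.Agent.H770.CY Cfsg.Agent.H145.BR Cfsg.Agent.Characters
open Cfsg.Agent.H598.CY (inn)

universe u v z

variable {p : ℕ} [hp : Fact p.Prime] {S : Type u} [Group S] [Fintype S] [IsSimpleGroup S]

/-- **the assembly** -/
theorem witA_of_virt (hnc : ¬ IsMulCommutative S) {M : Ideal AlgInt} (hM : IsPModular p M) {A : Subgroup (MulAut S)}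
    (hA : Amb p S A) [Fintype A] {B : Subgroup (MulAut S)} (hB : ∀ s : S, MulAut.conj s ∈ B)
    (h2 : ∀ a b : MulAut S, a ∉ B → b ∉ B → a * b ∈ B)
    {J : Type*} [Fintype J] (X : J → Type v) [∀ j, MulAction B (X j)] [∀ j, Finite (X j)] (ε : J → ℤ)
    {Y : Type z} [Finite Y] [MulAction (MulAut S) Y]
    (hO : ∀ (j k : J) (a : B) (x : X j) (y : X k), ∃ s : S, inn hB s • x = a • x ∧ inn hB s • y = a • y)
    (hOY : ∀ (j : J) (a : B) (x : X j) (y : Y), ∃ s : S, inn hB s • x = a • x ∧ MulAut.conj s • y = (a : MulAut S) • y)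
    (χ : IrrCharacter S) (hχ1 : (χ : S → ℂ) ≠ (fun _ => 1))
    (hχ : ∀ s, (χ : S → ℂ) s = ((vp X ε (inn hB s) : ℤ) : ℂ))
    (hY : classInner (fun s : S => permC (MulAut S) Y (MulAut.conj s)) (χ : S → ℂ) = 1)
    (hinv : ∀ (a : MulAut S) (s : S), (χ : S → ℂ) (a s) = (χ : S → ℂ) s)
    (c : ZMod p) (hc0 : c ≠ 0)
    (hc : ∀ (Q : Sylow p S) (a : B), (∀ x ∈ Q, (a : MulAut S) x = x) → ((vp X ε a : ℤ) : ZMod p) = c)
    (hL10 : ∃ Ψ : IrrCharacter A, (∀ s, (Ψ : A → ℂ) (inn hA.1 s) = (χ : S → ℂ) s) ∧ Cyc p (Ψ : A → ℂ) ∧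
      classInner (permC A Y) (Ψ : A → ℂ) ≠ 0) :
    ∃ Ψ : A → ℂ, WitA p M S A hA.1 Ψ := by
  classical
  obtain ⟨Ψ, h3, h4, h5⟩ := hL10
  have hval := value_eq hA.1 hB X ε hO hOY χ hχ hY Ψ h3 h5
  have hQ : ∀ Q : Sylow p S, ((vp X ε (1 : B) : ℤ) : ZMod p) = c := fun Q => hc Q 1 fun x _ => rfl
  obtain ⟨Q0⟩ : Nonempty (Sylow p S) := inferInstance
  have hΨ1 : (Ψ : A → ℂ) 1 = ((vp X ε (1 : B) : ℤ) : ℂ) := hval 1 B.one_mem
  have hcyc : Cyc p (χ : S → ℂ) :=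
    H598.CY.cyc_of_int (Core.isIrr_isCharacter χ.2) fun g => ⟨_, hχ g⟩
  refine H598.CY.witA_two hnc hM hA B hB (fun a _ b _ => h2 a b) Ψ h4 ?_ χ (fun s => (h3 s).symm) hχ1 hcyc ?_
  · intro hd
    have h6 := (S0914.degree_spec Ψ).1
    rw [hΨ1] at h6
    have h7 : (vp X ε (1 : B) : ℤ) = (charDegree (Ψ : A → ℂ) : ℤ) := by exact_mod_cast h6
    apply hc0
    rw [← hQ Q0, h7, Int.cast_natCast]
    exact (ZMod.natCast_eq_zero_iff _ _).2 hd
  · rintro a ha - ⟨Q, hQa⟩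
    rw [hval a ha, hΨ1]
    have h8 : ((vp X ε (⟨a, ha⟩ : B) : ℤ) : ℂ) - ((vp X ε (1 : B) : ℤ) : ℂ) =
        ((vp X ε (⟨a, ha⟩ : B) - vp X ε (1 : B) : ℤ) : ℂ) := by push_cast; rfl
    rw [h8, Blocks.LocalRing.memLocalIdeal_intCast_iff hM]
    rw [← ZMod.intCast_zmod_eq_zero_iff_dvd]
    push_cast
    rw [hc Q ⟨a, ha⟩ hQa, hQ Q, sub_self]

end Cfsg.Agent.H125.CY
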