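import Cfsg.Agent.H125.PC.Ten
import Cfsg.Agent.H125.CY.Sum
import Cfsg.Agent.H713.Reduce

/-!
# S4829: the tensor induced character over a non-abelian minimal normal subgroup (helper125)
-/

set_option autoImplicit false
set_option linter.unusedSectionVars false

open scoped ComplexConjugate
open Subgroup

namespace Cfsg.Agent.H125.CY

open Cfsg Cfsg.Agent.H770.CY Cfsg.Agent.Characters Cfsg.Agent.H713

universe u

variable {p : ℕ} {G : Type u} [Group G] [Finite G] {m : ℕ} {N : Subgroup G} {T : Fin m → Subgroup G}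

/-- **The tensor induced character.** -/
theorem exists_coord (e : N ≃* (∀ i, T i)) (hTinj : Function.Injective T) (hTN : ∀ i, T i ≤ N)
    (hTn : ∀ i, N ≤ Subgroup.normalizer (T i : Set G))
    (hconj : ∀ (g : G) i, ∃ j, T j = (T i).map (MulAut.conj g).toMonoidHom)
    (he : ∀ i (t : T i), ((e.symm (Pi.mulSingle i t) : N) : G) = t)
    (hc : ∀ (n : N) i, e n i = 1 ↔ ∀ t ∈ T i, Commute (n : G) t)
    (o : Fin m) (g : Fin m → G) (hg : ∀ i, T i = (T o).map (MulAut.conj (g i)).toMonoidHom)
    {A : Subgroup (MulAut (T o))} (hA : ∀ s : T o, MulAut.conj s ∈ A)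
    (hAx : ∀ (x : G) (h : T o = (T o).map (MulAut.conj x).toMonoidHom), (conjIso x h : MulAut (T o)) ∈ A)
    {ψ : A → ℂ} (hψ : IsCharacter A ψ) (hpG : p ∣ Nat.card G) (hcyc : Cyc p ψ) :
    ∃ Ψ : G → ℂ, IsCharacter G Ψ ∧ Cyc p Ψ ∧
      (∀ n : N, Ψ n = ∏ i, ψ ⟨MulAut.conj ((conjIso (g i) (hg i)).symm (e n i)), hA _⟩) ∧
      ∀ x : G, (∀ i, T i = (T i).map (MulAut.conj x).toMonoidHom) → ∃ b : Fin m → A, Ψ x = ∏ i, ψ (b i) ∧
        ∀ i (s : T o), (((b i : MulAut (T o)) s : T o) : G) =
          (g i)⁻¹ * (x * (g i * s * (g i)⁻¹) * x⁻¹) * g i := by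
  classical
  choose f hf using hconj
  -- the permutation action
  have hf1 : ∀ i, f 1 i = i := by
    intro i
    apply hTinj
    rw [hf, Cfsg.Agent.Lib.MinNormal.map_conj_one]
  have hf2 : ∀ x y i, f (x * y) i = f x (f y i) := by
    intro x y i
    apply hTinj
    rw [hf, hf x, hf y, Cfsg.Agent.Lib.MinNormal.map_conj_map_conj]
  let act : MulAction G (Fin m) :=
    { smul := f
      one_smul := hf1
      mul_smul := hf2 }
  let π : G →* Equiv.Perm (Fin m) := MulAction.toPermHom G (Fin m)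
  have hπ : ∀ x i, π x i = f x i := fun _ _ => rfl
  -- the cocycle
  have hself : ∀ x i, T o = (T o).map (MulAut.conj ((g (f x i))⁻¹ * (x * g i))).toMonoidHom := by
    intro x i
    rw [← Cfsg.Agent.Lib.MinNormal.map_conj_map_conj, ← Cfsg.Agent.Lib.MinNormal.map_conj_map_conj, ← hg i, ← hf x i]
    conv_rhs => rw [hg (f x i)]
    rw [Cfsg.Agent.Lib.MinNormal.map_conj_map_conj, inv_mul_cancel, Cfsg.Agent.Lib.MinNormal.map_conj_one]
  let a : G → Fin m → A := fun x i => ⟨conjIso _ (hself x i), hAx _ (hself x i)⟩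
  have hval : ∀ x i (s : T o), (((a x i : MulAut (T o)) s : T o) : G) =
      (g (f x i))⁻¹ * (x * (g i * s * (g i)⁻¹) * x⁻¹) * g (f x i) := by
    intro x i s
    have h1 : (((a x i : MulAut (T o)) s : T o) : G) =
      ((g (f x i))⁻¹ * (x * g i)) * s * ((g (f x i))⁻¹ * (x * g i))⁻¹ := conjIso_apply _ (hself x i) s
    rw [h1]
    group
  have ha : ∀ x y i, a (x * y) i = a x (π y i) * a y i := by
    intro x y i
    apply Subtype.ext
    apply MulEquiv.ext
    intro s
    apply Subtype.ext
    rw [Subgroup.coe_mul, MulAut.mul_apply, hval, hval, hval, hπ, hf2]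
    group
  obtain ⟨Ψ, hΨ, hprod, hσ⟩ := PC.exists_ten π a ha hψ
  have hpc : Cyc p Ψ := PC.cyc_of_map hpG hΨ hψ hcyc hσ
  refine ⟨Ψ, hΨ, hpc, fun n => ?_, fun x hx => ?_⟩
  · -- values on `N`
    have hfN : ∀ i, f n i = i := by
      intro i
      apply hTinj
      rw [hf]
      exact Subgroup.mem_normalizer_iff_map_conj_eq.1 (hTn i n.2)
    have hπN : π n = 1 := by
      ext i
      rw [hπ, hfN]
      rfl
    have haN : ∀ i, (a n i : MulAut (T o)) = MulAut.conj ((conjIso (g i) (hg i)).symm (e n i)) := by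
      intro i
      apply MulEquiv.ext
      intro s
      apply Subtype.ext
      rw [hval, hfN]
      have h1 : ∀ u : T i, (n : G) * u * (n : G)⁻¹ = (e n i : G) * u * (e n i : G)⁻¹ := by
        intro u
        have h2 := (hc ((⟨e n i, hTN i (e n i).2⟩ : N)⁻¹ * n) i).1 (by
          have h1 : e (⟨e n i, hTN i (e n i).2⟩ : N) = Pi.mulSingle i (e n i) := by
            apply e.symm.injective
            rw [MulEquiv.symm_apply_apply]
            exact Subtype.ext (he i (e n i)).symm
          rw [map_mul, map_inv, h1, Pi.mul_apply, Pi.inv_apply, Pi.mulSingle_eq_same]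
          simp) u u.2
        have h3 : ((e n i : G))⁻¹ * (n : G) * u = u * (((e n i : G))⁻¹ * (n : G)) := h2.eq
        have h4 : (n : G) * u * (n : G)⁻¹ = (e n i : G) * (((e n i : G))⁻¹ * (n : G) * u) * (n : G)⁻¹ := by group
        rw [h4, h3]
        group
      have h5 := h1 (conjIso (g i) (hg i) s)
      rw [conjIso_apply] at h5
      have h6 : g i * (((conjIso (g i) (hg i)).symm (e n i) : T o) : G) * (g i)⁻¹ = (e n i : G) := by
        have := congrArg (Subtype.val : T i → G) ((conjIso (g i) (hg i)).apply_symm_apply (e n i))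
        rwa [conjIso_apply] at this
      rw [h5, MulAut.conj_apply, Subgroup.coe_mul, Subgroup.coe_mul, Subgroup.coe_inv, ← h6]
      group
    rw [hprod n hπN]
    refine Finset.prod_congr rfl fun i _ => ?_
    congr 1
    exact Subtype.ext (haN i)
  · have hfx : ∀ i, f x i = i := by
      intro i
      apply hTinj
      rw [hf]
      exact (hx i).symm
    have hπx : π x = 1 := by
      ext i
      rw [hπ, hfx]
      rfl
    refine ⟨a x, hprod x hπx, fun i s => ?_⟩
    rw [hval, hfx]

end Cfsg.Agent.H125.CY
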