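import Cfsg.Agent.H125.CY.Prod
import Cfsg.Agent.H666.CY.Comp

/-!
# S4829: non-abelian minimal normal subgroups (helper125; components: helper666)

`nonab` : `G` finite, `N` a non-abelian minimal normal subgroup of order divisible by `p`, `G / N` with a normal
`p`-complement, the rows `RowA p S`: there is a nonlinear `χ` in the principal `p`-block of `G`, of degree prime to
`p`, with values in the field of `p`-th roots of unity.
-/

set_option autoImplicit false
set_option linter.unusedSectionVars false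

open scoped ComplexConjugate
open Subgroup

namespace Cfsg.Agent.H125.CY

open Cfsg Cfsg.Agent.H770.CY Cfsg.Agent.Characters Cfsg.Agent.H713 Cfsg.Agent.Blocks.Local

universe u

/-- products of congruent local integers -/
theorem prod_sub_mem {p : ℕ} [_hp : Fact p.Prime] {M : Ideal AlgInt} (hM : IsPModular p M) {ι : Type*} (s : Finset ι)
    (f g : ι → ℂ) (hf : ∀ i ∈ s, MemLocalRing M (f i)) (hg : ∀ i ∈ s, MemLocalRing M (g i))
    (h : ∀ i ∈ s, MemLocalIdeal M (f i - g i)) : MemLocalIdeal M (∏ i ∈ s, f i - ∏ i ∈ s, g i) ∧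
      MemLocalRing M (∏ i ∈ s, f i) ∧ MemLocalRing M (∏ i ∈ s, g i) := by
  classical
  have hMp : M.IsPrime := isPrime_of_isPModular hM
  induction s using Finset.induction_on with
  | empty =>
    simp only [Finset.prod_empty, sub_self]
    exact ⟨memLocalIdeal_zero, memLocalRing_one, memLocalRing_one⟩
  | insert a s ha ih =>
    obtain ⟨h1, h2, h3⟩ := ih (fun i hi => hf i (Finset.mem_insert_of_mem hi))
      (fun i hi => hg i (Finset.mem_insert_of_mem hi)) (fun i hi => h i (Finset.mem_insert_of_mem hi))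
    rw [Finset.prod_insert ha, Finset.prod_insert ha]
    have hfa := hf a (Finset.mem_insert_self _ _)
    have hga := hg a (Finset.mem_insert_self _ _)
    have hha := h a (Finset.mem_insert_self _ _)
    refine ⟨?_, memLocalRing_mul hfa h2, memLocalRing_mul hga h3⟩
    have h4 : f a * ∏ i ∈ s, f i - g a * ∏ i ∈ s, g i =
        f a * (∏ i ∈ s, f i - ∏ i ∈ s, g i) + (∏ i ∈ s, g i) * (f a - g a) := by ring
    rw [h4]
    exact memLocalIdeal_add (memLocalIdeal_mul_left hfa h1) (memLocalIdeal_mul_left h3 hha)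

/-- **The theorem of the reduction for a non-abelian minimal normal subgroup.** -/
theorem nonab {p : ℕ} [hp : Fact p.Prime] {M : Ideal AlgInt} (hM : IsPModular p M) {G : Type u} [Group G] [Finite G]
    (N : Subgroup G) [N.Normal] (hmin : ∀ K : Subgroup G, K.Normal → K ≤ N → K = ⊥ ∨ K = N)
    (hna : ¬ ∀ x ∈ N, ∀ y ∈ N, Commute x y) (hpN : p ∣ Nat.card N)
    (hG : ∃ K : Subgroup G, K.Normal ∧ N ≤ K ∧ ¬ p ∣ N.relIndex K ∧ ∃ k : ℕ, K.index = p ^ k)
    (hrow : ∀ (S : Type u) [Group S] [Fintype S], IsSimpleGroup S → (¬ ∀ a b : S, a * b = b * a) →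
      p ∣ Nat.card S → RowA p S) :
    ∃ χ : IrrCharacter G, χ ∈ principalBlock M G ∧ charDegree (χ : G → ℂ) ≠ 1 ∧ ¬ p ∣ charDegree (χ : G → ℂ) ∧
      Cyc p (χ : G → ℂ) := by
  classical
  have hMp : M.IsPrime := isPrime_of_isPModular hM
  obtain ⟨m, T, e, hm, hsimple, hTna, hTinj, hTN, hTn, hconj, htrans, he, hcoord⟩ :=
    Cfsg.Agent.PermutationGroups.OnanScott.exists_coordinates N hmin hna
  set o : Fin m := ⟨0, hm⟩ with ho
  choose g hg using fun i => htrans o i
  have := Fintype.ofFinite (T o)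
  have := Fintype.ofFinite N
  let P : Sylow p G := default
  have hcardT : ∀ i, Nat.card (T i) = Nat.card (T o) := fun i => (Nat.card_congr (conjIso (g i) (hg i)).toEquiv).symm
  -- `p` divides the order of the factors
  have hpT : ∀ i, p ∣ Nat.card (T i) := by
    intro i
    rw [hcardT]
    rw [Nat.card_congr e.toEquiv, Nat.card_pi] at hpN
    obtain ⟨j, -, hj⟩ := (hp.out.prime.dvd_finsetProd_iff _).1 hpN
    rwa [hcardT] at hj
  have hpG : p ∣ Nat.card G := hpN.trans (card_subgroup_dvd_card N)
  have hnaT : ¬ ∀ a b : T o, a * b = b * a := by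
    obtain ⟨a, b, hab⟩ := hTna o
    exact fun h => hab (h a b)
  -- inner action of `N`
  have key2 : ∀ (n : N) (i : Fin m), ∀ s ∈ T i, (n : G) * s * (n : G)⁻¹ = (e n i : G) * s * (e n i : G)⁻¹ := by
    intro n i s hs
    have h1 : e (⟨e n i, hTN i (e n i).2⟩ : N) = Pi.mulSingle i (e n i) := by
      apply e.symm.injective
      rw [MulEquiv.symm_apply_apply]
      exact Subtype.ext (he i (e n i)).symm
    have h2 : e ((⟨e n i, hTN i (e n i).2⟩ : N)⁻¹ * n) i = 1 := by
      rw [map_mul, map_inv, h1, Pi.mul_apply, Pi.inv_apply, Pi.mulSingle_eq_same]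
      simp
    have h3 : ((e n i : G))⁻¹ * (n : G) * s = s * (((e n i : G))⁻¹ * (n : G)) := ((hcoord _ i).1 h2 s hs).eq
    have h4 : (n : G) * s * (n : G)⁻¹ = (e n i : G) * (((e n i : G))⁻¹ * (n : G) * s) * (n : G)⁻¹ := by group
    rw [h4, h3]
    group
  -- the automorphisms
  have hamb : Amb p (T o) (T o).normalizerMonoidHom.range := by
    refine H666.CY.amb_of N (T o) (hTN o) (fun n hn => ⟨e ⟨n, hn⟩ o, (e ⟨n, hn⟩ o).2, fun t ht => ?_⟩) hG
    exact key2 ⟨n, hn⟩ o t ht
  obtain ⟨ψ, hψ⟩ := hrow (T o) (hsimple o) hnaT (hpT o) _ hamb M hM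
  obtain ⟨Ψ, hΨ, hcyc, hΨN, hΨx⟩ := exists_coord (p := p) e hTinj hTN hTn hconj he hcoord o g hg hamb.1
    (fun x h => (H666.CY.mem_range_iff (T o) _).2 ⟨x, h, rfl⟩) hψ.char hpG hψ.cyc
  obtain ⟨d, hd, hpd⟩ := hψ.deg
  have hΨ1 : Ψ 1 = ((d ^ m : ℕ) : ℂ) := by
    have h1 := hΨN 1
    rw [Subgroup.coe_one, map_one] at h1
    rw [h1]
    have h2 : ∀ i : Fin m, ψ ⟨MulAut.conj ((conjIso (g i) (hg i)).symm ((1 : ∀ i, T i) i)), hamb.1 _⟩ = d := by
      intro i
      rw [← hd]
      congr 1
      apply Subtype.ext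
      simp
    rw [Finset.prod_congr rfl fun i _ => h2 i, Finset.prod_const, Finset.card_univ, Fintype.card_fin, Nat.cast_pow]
  obtain ⟨J, _, θ, hinj, hθ, hsum⟩ := WitA_exists_sum hψ
  refine PC.crit hM P N hΨ hcyc ⟨d ^ m, hΨ1, fun h => hpd (hp.out.dvd_of_dvd_pow h)⟩ ?_ ?_
  · -- the local condition
    intro x hx hxp
    have hfix : ∀ i, T i = (T i).map (MulAut.conj x).toMonoidHom ∧
        ∃ Q : Sylow p (T i), ∀ q ∈ Q, x * q * x⁻¹ = q := by
      intro i
      obtain ⟨j, hj⟩ := hconj x i
      have h1 : T j = T i ∨ T j ⊓ T i = ⊥ := by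
        by_cases hij : j = i
        · exact Or.inl (hij ▸ rfl)
        · right
          rw [eq_bot_iff]
          rintro s ⟨hs1, hs2⟩
          have h1 : e (⟨s, hTN i hs2⟩ : N) = Pi.mulSingle i ⟨s, hs2⟩ := by
            apply e.symm.injective
            rw [MulEquiv.symm_apply_apply]
            exact Subtype.ext (he i ⟨s, hs2⟩).symm
          have h2 : e (⟨s, hTN i hs2⟩ : N) = Pi.mulSingle j ⟨s, hs1⟩ := by
            apply e.symm.injective
            rw [MulEquiv.symm_apply_apply]
            exact Subtype.ext (he j ⟨s, hs1⟩).symm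
          have h3 := congrFun (h1.symm.trans h2) i
          rw [Pi.mulSingle_eq_same, Pi.mulSingle_eq_of_ne (fun h => hij h.symm)] at h3
          exact mem_bot.2 (congrArg Subtype.val h3)
      obtain ⟨h2, h3⟩ := H666.CY.fix_factor P N (T i) (hTN i) (hTn i) (hpT i) hx hj h1
      exact ⟨h2 ▸ hj, h3⟩
    obtain ⟨b, hb1, hb2⟩ := hΨx x fun i => (hfix i).1
    have h5 : ∀ i, MemLocalIdeal M (ψ 1 - ψ (b i)) := by
      intro i
      rw [← neg_sub]
      refine memLocalIdeal_neg (hψ.loc (b i) ?_ ?_)
      · -- regular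
        have h8 : ∀ (n : ℕ) (s : T o), (((((b i) ^ n : _) : MulAut (T o)) s : T o) : G) =
            ((g i)⁻¹ * x ^ n * g i) * s * ((g i)⁻¹ * x ^ n * g i)⁻¹ := by
          intro n
          induction n with
          | zero =>
            intro s
            simp
          | succ n ih =>
            intro s
            have h9 : (((b i) ^ (n + 1) : _) : MulAut (T o)) s =
                (((b i) ^ n : _) : MulAut (T o)) ((b i : MulAut (T o)) s) := by
              rw [pow_succ, Subgroup.coe_mul, MulAut.mul_apply]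
            rw [h9, ih, hb2 i s, pow_succ]
            group
        have h9 : (b i) ^ orderOf x = 1 := by
          apply Subtype.ext
          apply MulEquiv.ext
          intro s
          apply Subtype.ext
          rw [h8, pow_orderOf_eq_one]
          simp
        intro h10
        exact hxp (h10.trans (orderOf_dvd_of_pow_eq_one h9))
      · -- a Sylow subgroup
        obtain ⟨Q, hQ⟩ := (hfix i).2
        refine ⟨Q.mapSurjective (f := ((conjIso (g i) (hg i)).symm : T i →* T o))
          (conjIso (g i) (hg i)).symm.surjective, fun s hs => ?_⟩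
        obtain ⟨q, hq, rfl⟩ := hs
        apply Subtype.ext
        rw [hb2 i]
        have h8 : g i * (((conjIso (g i) (hg i)).symm q : T o) : G) * (g i)⁻¹ = (q : G) := by
          have := congrArg (Subtype.val : T i → G) ((conjIso (g i) (hg i)).apply_symm_apply q)
          rwa [conjIso_apply] at this
        have h9 : (((((conjIso (g i) (hg i)).symm : T i →* T o)) q : T o) : G) = (g i)⁻¹ * (q : G) * g i := by
          rw [← h8]
          change (((conjIso (g i) (hg i)).symm q : T o) : G) = _
          group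
        rw [h9]
        have h10 : g i * ((g i)⁻¹ * (q : G) * g i) * (g i)⁻¹ = (q : G) := by group
        rw [h10, hQ q hq]
    have h6 := prod_sub_mem hM Finset.univ (fun _ : Fin m => ψ 1) (fun i => ψ (b i))
      (fun i _ => Blocks.LocalRing.memLocalRing_of_isIntegral hM (CharactersDeep.RChar.isIntegral_character hψ.char _))
      (fun i _ => Blocks.LocalRing.memLocalRing_of_isIntegral hM (CharactersDeep.RChar.isIntegral_character hψ.char _))
      (fun i _ => h5 i)
    have h7 : Ψ 1 = ∏ _i : Fin m, ψ 1 := by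
      rw [hΨ1, Finset.prod_const, Finset.card_univ, Fintype.card_fin, hd, Nat.cast_pow]
    rw [h7, hb1]
    exact h6.1
  · -- the restriction to `N`
    intro η hη
    let E : N ≃* (Fin m → T o) := e.trans (MulEquiv.piCongrRight fun i => (conjIso (g i) (hg i)).symm)
    have hE : ∀ (n : N) i, E n i = (conjIso (g i) (hg i)).symm (e n i) := fun _ _ => rfl
    refine prod_sum E θ (hsimple o) hnaT hm hinj hθ (fun n => ?_) η hη
    rw [hΨN]
    exact Finset.prod_congr rfl fun i _ => by rw [hsum, hE]

end Cfsg.Agent.H125.CY
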