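import Cfsg.Agent.H125.CY.Coord
import Cfsg.Agent.H793.PC.Pi
import Cfsg.Agent.CharDeep.LinearChar

/-!
# S4829: products of sums of irreducible characters (helper125)
-/

set_option autoImplicit false
set_option linter.unusedSectionVars false

open scoped ComplexConjugate
open Subgroup

namespace Cfsg.Agent.H125.CY

open Cfsg Cfsg.Agent.H770.CY Cfsg.Agent.Characters Cfsg.Agent.Blocks.Blau

universe u

/-- a character of degree one of a non-abelian simple group is trivial -/
theorem one_lt_of_ne {S : Type u} [Group S] [Finite S] (hs : IsSimpleGroup S) (hna : ¬ ∀ a b : S, a * b = b * a)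
    (θ : IrrCharacter S) (hθ : (θ : S → ℂ) ≠ fun _ => 1) : charDegree (θ : S → ℂ) ≠ 1 := by
  intro h
  apply hθ
  have h1 : (θ : S → ℂ) 1 = 1 := by rw [H145.BR.charDegree_cast', h, Nat.cast_one]
  obtain ⟨f, hf⟩ := CharDeep.LinearChar.exists_hom_of_isCharacter (Core.isIrr_isCharacter θ.2) h1
  rcases hs.eq_bot_or_eq_top_of_normal f.ker inferInstance with h2 | h2
  · exfalso
    apply hna
    intro a b
    apply (MonoidHom.ker_eq_bot_iff f).1 h2
    rw [map_mul, map_mul, mul_comm]
  · funext s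
    rw [hf, (MonoidHom.mem_ker).1 (h2 ▸ mem_top s : s ∈ f.ker)]
    simp

section pi

variable {S : Type u} [Group S] [Finite S] {m : ℕ} {J : Type u} [Fintype J]

/-- the product of irreducible characters -/
noncomputable def pc {H : Type u} [Group H] [Finite H] (E : H ≃* (Fin m → S)) (θ : J → IrrCharacter S)
    (f : Fin m → J) : IrrCharacter H :=
  ⟨fun n => ∏ i, ((θ (f i) : IrrCharacter S) : S → ℂ) (E n i),
    Core.isIrr_comp (E : H →* (Fin m → S)) E.surjective
      (H793.PC.isIrr_pi (A := fun _ : Fin m => S) fun i => (θ (f i)).2)⟩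

variable {H : Type u} [Group H] [Finite H] (E : H ≃* (Fin m → S)) (θ : J → IrrCharacter S)

theorem pc_apply (f : Fin m → J) (n : H) : (pc E θ f : H → ℂ) n = ∏ i, ((θ (f i) : IrrCharacter S) : S → ℂ) (E n i) := rfl

theorem pc_injective (hinj : Function.Injective θ) : Function.Injective (pc E θ) := by
  classical
  intro f f' h
  funext i
  apply hinj
  by_contra hne
  have := Fintype.ofFinite S
  -- evaluate at the `i`-th factor
  have h1 : ∀ (f : Fin m → J) (t : S), (pc E θ f : H → ℂ) (E.symm (Pi.mulSingle i t)) =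
      ((θ (f i) : IrrCharacter S) : S → ℂ) t * ∏ k ∈ Finset.univ.erase i, ((θ (f k) : IrrCharacter S) : S → ℂ) 1 := by
    intro f t
    rw [pc_apply, MulEquiv.apply_symm_apply, ← Finset.mul_prod_erase Finset.univ _ (Finset.mem_univ i),
      Pi.mulSingle_eq_same]
    congr 1
    refine Finset.prod_congr rfl fun k hk => ?_
    rw [Pi.mulSingle_eq_of_ne (Finset.ne_of_mem_erase hk)]
  set c := ∏ k ∈ Finset.univ.erase i, ((θ (f k) : IrrCharacter S) : S → ℂ) 1 with hc
  set c' := ∏ k ∈ Finset.univ.erase i, ((θ (f' k) : IrrCharacter S) : S → ℂ) 1 with hc'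
  have hc0 : c ≠ 0 := Finset.prod_ne_zero_iff.2 fun k _ => apply_one_ne_zero (θ (f k))
  have h2 : c • ((θ (f i) : IrrCharacter S) : S → ℂ) = c' • ((θ (f' i) : IrrCharacter S) : S → ℂ) := by
    funext t
    have h3 := congrFun (congrArg Subtype.val h) (E.symm (Pi.mulSingle i t))
    have h4 := (h1 f t).symm.trans (h3.trans (h1 f' t))
    rw [Pi.smul_apply, Pi.smul_apply, smul_eq_mul, smul_eq_mul, mul_comm, h4, mul_comm]
  have h3 := congrArg (fun F : S → ℂ => classInner F ((θ (f i) : IrrCharacter S) : S → ℂ)) h2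
  simp only [Core.classInner_smul_left] at h3
  rw [Core.classInner_irr_self (θ (f i)).2,
    Core.classInner_irr_ne (θ (f' i)).2 (θ (f i)).2 (fun h => hne (Subtype.ext h.symm)), mul_one, mul_zero] at h3
  exact hc0 h3

variable {p : ℕ}

/-- **the restriction to `N`**: a product of sums of different characters is a sum of different characters -/
theorem prod_sum (hs : IsSimpleGroup S) (hna : ¬ ∀ a b : S, a * b = b * a) (hm : 0 < m)
    (hinj : Function.Injective θ)
    (hθ : ∀ j, ((θ j : IrrCharacter S) : S → ℂ) ≠ (fun _ => 1) ∧ Cyc p ((θ j : IrrCharacter S) : S → ℂ))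
    [Fintype H] {Φ : H → ℂ} (hΦ : ∀ n, Φ n = ∏ i, ∑ j, ((θ j : IrrCharacter S) : S → ℂ) (E n i))
    (η : IrrCharacter H) (hη : classInner Φ (η : H → ℂ) ≠ 0) :
    classInner Φ (η : H → ℂ) = 1 ∧ charDegree (η : H → ℂ) ≠ 1 ∧ Cyc p (η : H → ℂ) := by
  classical
  have h1 : Φ = ∑ f : Fin m → J, (pc E θ f : H → ℂ) := by
    funext n
    rw [hΦ, Finset.prod_univ_sum, Fintype.piFinset_univ, Finset.sum_apply]
    rfl
  have h2 : classInner Φ (η : H → ℂ) = ∑ f : Fin m → J, classInner (pc E θ f : H → ℂ) (η : H → ℂ) := by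
    rw [h1, Core.classInner_sum_left]
  obtain ⟨f, rfl⟩ : ∃ f, pc E θ f = η := by
    by_contra h
    push Not at h
    apply hη
    rw [h2]
    exact Finset.sum_eq_zero fun f _ => Core.classInner_irr_ne (pc E θ f).2 η.2 fun h3 => h f (Subtype.ext h3)
  refine ⟨?_, ?_, ?_⟩
  · rw [h2, Finset.sum_eq_single f]
    · exact Core.classInner_irr_self (pc E θ f).2
    · intro f' _ hf'
      exact Core.classInner_irr_ne (pc E θ f').2 (pc E θ f).2 fun h => hf' (pc_injective E θ hinj (Subtype.ext h))
    · intro h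
      exact absurd (Finset.mem_univ f) h
  · intro h3
    have h4 : (pc E θ f : H → ℂ) 1 = ((∏ i, charDegree ((θ (f i) : IrrCharacter S) : S → ℂ) : ℕ) : ℂ) := by
      rw [pc_apply, Nat.cast_prod]
      refine Finset.prod_congr rfl fun i _ => ?_
      rw [map_one, Pi.one_apply, H145.BR.charDegree_cast']
    rw [H145.BR.charDegree_cast', h3] at h4
    have h5 : ∏ i, charDegree ((θ (f i) : IrrCharacter S) : S → ℂ) = 1 := by exact_mod_cast h4.symm
    have h6 := Finset.prod_eq_one_iff.1 h5 ⟨0, hm⟩ (Finset.mem_univ _)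
    exact one_lt_of_ne hs hna _ (hθ _).1 h6
  · intro k hk hkp n
    have hcard : Nat.card S ∣ Nat.card H := by
      rw [Nat.card_congr E.toEquiv, Nat.card_fun, Nat.card_eq_fintype_card (α := Fin m), Fintype.card_fin]
      exact dvd_pow_self _ hm.ne'
    rw [pc_apply, pc_apply]
    refine Finset.prod_congr rfl fun i _ => ?_
    rw [map_pow, Pi.pow_apply]
    exact (hθ _).2 k (hk.coprime_dvd_right hcard) hkp _

end pi

end Cfsg.Agent.H125.CY
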