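import Cfsg.Agent.H125.CY.Asm
import Cfsg.Agent.H598.CY.IsoOne

/-!
# S4829: `psl_wit` (helper125)

`Asm.witA_of_virt` with lemma L10 (helper598).
-/

set_option autoImplicit false

namespace Cfsg.Agent.H125.CY

open MulAction Cfsg Cfsg.Agent.H770.CY Cfsg.Agent.H145.BR Cfsg.Agent.Characters
open Cfsg.Agent.H598.CY (inn)

universe u v z

variable {p : ℕ} [hp : Fact p.Prime] {S : Type u} [Group S] [Fintype S] [IsSimpleGroup S]

/-- **the assembly** -/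
theorem psl_wit (hnc : ¬ IsMulCommutative S) {M : Ideal AlgInt} (hM : IsPModular p M) {A : Subgroup (MulAut S)}
    (hA : Amb p S A) {B : Subgroup (MulAut S)} (hB : ∀ s : S, MulAut.conj s ∈ B)
    (h2 : ∀ a b : MulAut S, a ∉ B → b ∉ B → a * b ∈ B)
    {J : Type*} [Fintype J] (X : J → Type v) [∀ j, MulAction B (X j)] [∀ j, Finite (X j)] (ε : J → ℤ)
    {Y : Type z} [Finite Y] [MulAction (MulAut S) Y]
    (hO : ∀ (j k : J) (a : B) (x : X j) (y : X k), ∃ s : S, inn hB s • x = a • x ∧ inn hB s • y = a • y)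
    (hOY : ∀ (j : J) (a : B) (x : X j) (y : Y), ∃ s : S, inn hB s • x = a • x ∧ MulAut.conj s • y = (a : MulAut S) • y)
    (χ : IrrCharacter S) (hχ1 : (χ : S → ℂ) ≠ (fun _ => 1))
    (hχ : ∀ s, (χ : S → ℂ) s = ((vp X ε (inn hB s) : ℤ) : ℂ))
    (hY : classInner (fun s : S => permC (MulAut S) Y (MulAut.conj s)) (χ : S → ℂ) = 1)
    (hinv : ∀ (a : MulAut S) (s : S), (χ : S → ℂ) (a s) = (χ : S → ℂ) s)
    (c : ZMod p) (hc0 : c ≠ 0)
    (hc : ∀ (Q : Sylow p S) (a : B), (∀ x ∈ Q, (a : MulAut S) x = x) → ((vp X ε a : ℤ) : ZMod p) = c) :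
    ∃ Ψ : A → ℂ, WitA p M S A hA.1 Ψ := by
  classical
  have := Fintype.ofFinite A
  have hcyc : Cyc p (χ : S → ℂ) :=
    H598.CY.cyc_of_int (Core.isIrr_isCharacter χ.2) fun g => ⟨_, hχ g⟩
  obtain ⟨Ψ, h3, h4, h5⟩ := H598.CY.iso_one_aut hnc hA.1 Y χ hY (fun a _ s => hinv a s) hcyc
  exact witA_of_virt hnc hM hA hB h2 X ε hO hOY χ hχ1 hχ hY hinv c hc0 hc
    ⟨Ψ, h3, h4, by rw [h5]; exact one_ne_zero⟩

/-- **the assembly, for a row** -/
theorem rowA_of_virt (hnc : ¬ IsMulCommutative S) {B : Subgroup (MulAut S)} (hB : ∀ s : S, MulAut.conj s ∈ B)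
    (h2 : ∀ a b : MulAut S, a ∉ B → b ∉ B → a * b ∈ B)
    {J : Type*} [Fintype J] (X : J → Type v) [∀ j, MulAction B (X j)] [∀ j, Finite (X j)] (ε : J → ℤ)
    {Y : Type z} [Finite Y] [MulAction (MulAut S) Y]
    (hO : ∀ (j k : J) (a : B) (x : X j) (y : X k), ∃ s : S, inn hB s • x = a • x ∧ inn hB s • y = a • y)
    (hOY : ∀ (j : J) (a : B) (x : X j) (y : Y), ∃ s : S, inn hB s • x = a • x ∧ MulAut.conj s • y = (a : MulAut S) • y)
    (χ : IrrCharacter S) (hχ1 : (χ : S → ℂ) ≠ (fun _ => 1))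
    (hχ : ∀ s, (χ : S → ℂ) s = ((vp X ε (inn hB s) : ℤ) : ℂ))
    (hY : classInner (fun s : S => permC (MulAut S) Y (MulAut.conj s)) (χ : S → ℂ) = 1)
    (hinv : ∀ (a : MulAut S) (s : S), (χ : S → ℂ) (a s) = (χ : S → ℂ) s)
    (c : ZMod p) (hc0 : c ≠ 0)
    (hc : ∀ (Q : Sylow p S) (a : B), (∀ x ∈ Q, (a : MulAut S) x = x) → ((vp X ε a : ℤ) : ZMod p) = c) :
    RowA p S := fun _ hA _ hM => psl_wit hnc hM hA hB h2 X ε hO hOY χ hχ1 hχ hY hinv c hc0 hc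

end Cfsg.Agent.H125.CY
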