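import Cfsg.Agent.H205.CY.Act
import Cfsg.Agent.H598.CY.Orb
import Cfsg.Agent.H116.CY.Wit
import Cfsg.Agent.CharactersDeep.MaxInduced

/-!
# S4829: virtual permutation characters (helper125)

`G` acts on the finite sets `X j`; `th g = ∑ j, ε j |Fix g|`.  If a subgroup `S` has the same orbits on all `X j × X k`
and `th` is irreducible on `S` then it is irreducible on `G`; it is the only constituent of `C[Y]` over `th|S`.
-/

set_option autoImplicit false

namespace Cfsg.Agent.H125.CY

open MulAction Cfsg Cfsg.Agent.H770.CY Cfsg.Agent.H145.BR Cfsg.Agent.Characters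

universe u v w z

section virt

variable {G : Type u} [Group G] [Finite G] {S : Type w} [Group S] [Finite S] (i : S →* G)

omit [Finite G] [Finite S] in
/-- the inner product of two permutation characters is the same for `G` and `S` -/
theorem inner_pair [Fintype S] [Fintype G] (X : Type v) (Y : Type z) [Finite X] [Finite Y] [MulAction G X] [MulAction G Y]
    (horb : ∀ (g : G) (x : X) (y : Y), ∃ s : S, i s • x = g • x ∧ i s • y = g • y) :
    classInner (fun s : S => permC G X (i s)) (fun s : S => permC G Y (i s)) = classInner (permC G X) (permC G Y) := by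
  let act1 : MulAction S X := MulAction.compHom X i
  let act2 : MulAction S Y := MulAction.compHom Y i
  have e1 := H464.PermIrr.classInner_pc (G := S) X Y
  have e2 := H464.PermIrr.classInner_pc (G := G) X Y
  have e3 : classInner (fun s : S => permC G X (i s)) (fun s : S => permC G Y (i s)) =
      classInner (H464.PermIrr.pc S X) (H464.PermIrr.pc S Y) := rfl
  have e4 : classInner (permC G X) (permC G Y) = classInner (H464.PermIrr.pc G X) (H464.PermIrr.pc G Y) := rfl
  rw [e3, e4, e1, e2]
  have h : MulAction.orbitRel S (X × Y) = MulAction.orbitRel G (X × Y) := by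
    ext a b
    rw [MulAction.orbitRel_apply, MulAction.orbitRel_apply]
    constructor
    · rintro ⟨s, hs⟩
      exact ⟨i s, hs⟩
    · rintro ⟨g, hg⟩
      obtain ⟨s, hs1, hs2⟩ := horb g b.1 b.2
      refine ⟨s, ?_⟩
      rw [← hg]
      exact Prod.ext hs1 hs2
  change (Nat.card (Quotient (MulAction.orbitRel S (X × Y))) : ℂ) = (Nat.card (Quotient (MulAction.orbitRel G (X × Y))) : ℂ)
  rw [h]

variable {J : Type*} [Fintype J] (X : J → Type v) [∀ j, MulAction G (X j)] [∀ j, Finite (X j)] (ε : J → ℤ)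

/-- the virtual permutation character -/
noncomputable def vp : G → ℤ := fun g => ∑ j, ε j * (Nat.card (fixedBy (X j) g) : ℤ)

omit [Finite G] [∀ j, Finite (X j)] in
theorem vp_eq : (fun g : G => ((vp X ε g : ℤ) : ℂ)) = ∑ j, ((ε j : ℤ) : ℂ) • permC G (X j) := by
  funext g
  rw [Finset.sum_apply]
  unfold vp
  push_cast
  rfl

omit [Finite G] [Finite S] [∀ j, Finite (X j)] in
theorem vp_eq' : (fun s : S => ((vp X ε (i s) : ℤ) : ℂ)) = ∑ j, ((ε j : ℤ) : ℂ) • fun s : S => permC G (X j) (i s) := by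
  funext g
  rw [Finset.sum_apply]
  unfold vp
  push_cast
  rfl

theorem isGen_vp [Fintype G] : IsGeneralizedCharacter G (fun g => ((vp X ε g : ℤ) : ℂ)) := by
  rw [vp_eq]
  have hc : ∀ j, IsCharacter G (permC G (X j)) := fun j => isCharacter_permC (G := G) (X j)
  refine Brauer.isGeneralizedCharacter_of_int ?_ fun χ hχ => ?_
  · intro g h
    rw [Finset.sum_apply, Finset.sum_apply]
    exact Finset.sum_congr rfl fun j _ => by
      rw [Pi.smul_apply, Pi.smul_apply, Core.isCharacter_isClassFunction (hc j) g h]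
  · rw [Core.classInner_sum_left]
    have h1 : ∀ j, ∃ n : ℕ, classInner (permC G (X j)) χ = n := fun j =>
      Core.classInner_isNat (hc j) (Core.isIrr_isCharacter hχ)
    choose n hn using h1
    refine ⟨∑ j, ε j * (n j : ℤ), ?_⟩
    push_cast
    exact Finset.sum_congr rfl fun j _ => by rw [Core.classInner_smul_left, hn]

omit [Finite G] [Finite S] in
theorem inner_vp [Fintype S] [Fintype G]
    (horb : ∀ (j k : J) (g : G) (x : X j) (y : X k), ∃ s : S, i s • x = g • x ∧ i s • y = g • y) :
    classInner (fun s : S => ((vp X ε (i s) : ℤ) : ℂ)) (fun s : S => ((vp X ε (i s) : ℤ) : ℂ)) =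
      classInner (fun g : G => ((vp X ε g : ℤ) : ℂ)) (fun g : G => ((vp X ε g : ℤ) : ℂ)) := by
  rw [vp_eq, vp_eq', Core.classInner_sum_left, Core.classInner_sum_left]
  refine Finset.sum_congr rfl fun j _ => ?_
  rw [Core.classInner_sum_right, Core.classInner_sum_right]
  refine Finset.sum_congr rfl fun k _ => ?_
  rw [Core.classInner_smul_left, Core.classInner_smul_left, Core.classInner_smul_right, Core.classInner_smul_right,
    inner_pair i (X j) (X k) (horb j k)]

omit [Finite G] [Finite S] in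
theorem inner_vp_perm [Fintype S] [Fintype G] (Y : Type z) [Finite Y] [MulAction G Y]
    (horb : ∀ (j : J) (g : G) (x : X j) (y : Y), ∃ s : S, i s • x = g • x ∧ i s • y = g • y) :
    classInner (fun s : S => ((vp X ε (i s) : ℤ) : ℂ)) (fun s : S => permC G Y (i s)) =
      classInner (fun g : G => ((vp X ε g : ℤ) : ℂ)) (permC G Y) := by
  rw [vp_eq, vp_eq', Core.classInner_sum_left, Core.classInner_sum_left]
  refine Finset.sum_congr rfl fun j _ => ?_
  rw [Core.classInner_smul_left, Core.classInner_smul_left, inner_pair i (X j) Y (horb j)]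

omit [Finite S] in
/-- **the virtual permutation character is irreducible on `G` if it is so on `S`** -/
theorem irr_vp [Fintype S] [Fintype G]
    (horb : ∀ (j k : J) (g : G) (x : X j) (y : X k), ∃ s : S, i s • x = g • x ∧ i s • y = g • y)
    (h : IsIrrCharacter S (fun s => ((vp X ε (i s) : ℤ) : ℂ))) : IsIrrCharacter G (fun g => ((vp X ε g : ℤ) : ℂ)) := by
  have h1 := inner_vp i X ε horb
  rw [Core.classInner_irr_self h] at h1
  rcases Core.isIrr_of_generalized (isGen_vp (G := G) X ε) h1.symm with h2 | h2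
  · exact h2
  · exfalso
    obtain ⟨n, hn, hn'⟩ := Core.isIrr_apply_one h2
    obtain ⟨m, hm, hm'⟩ := Core.isIrr_apply_one h
    have h3 : -((vp X ε (1 : G) : ℤ) : ℂ) = n := hn'
    have h4 : ((vp X ε (1 : G) : ℤ) : ℂ) = m := by
      rw [← hm', map_one]
    rw [h4] at h3
    have h5 : -(m : ℤ) = n := by exact_mod_cast h3
    omega

omit [Finite S] in
/-- two constituents of a character which agree on `S` are equal if the multiplicity on `S` is one -/
theorem eq_of_mult_one [Fintype S] [Fintype G] {π : G → ℂ} (hπ : IsCharacter G π) {θ : S → ℂ} (hθ : IsIrrCharacter S θ)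
    (h1 : classInner (fun s : S => π (i s)) θ = 1) (χ ψ : IrrCharacter G)
    (hχ : ∀ s, (χ : G → ℂ) (i s) = θ s) (hψ : ∀ s, (ψ : G → ℂ) (i s) = θ s)
    (hχπ : classInner π (χ : G → ℂ) ≠ 0) (hψπ : classInner π (ψ : G → ℂ) ≠ 0) : χ = ψ := by
  classical
  by_contra hne
  have : Finite (IrrCharacter G) := Core.finite_irr
  have := Fintype.ofFinite (IrrCharacter G)
  obtain ⟨m, rfl⟩ := Core.isCharacter_iff.1 hπ
  rw [Core.classInner_sum_nsmul_irr] at hχπ hψπ
  have e1 : (fun s : S => (∑ φ : IrrCharacter G, m φ • (φ : G → ℂ)) (i s)) =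
      ∑ φ : IrrCharacter G, ((m φ : ℕ) : ℂ) • fun s : S => (φ : G → ℂ) (i s) := by
    funext s
    rw [Finset.sum_apply, Finset.sum_apply]
    exact Finset.sum_congr rfl fun φ _ => by
      rw [Pi.smul_apply, Pi.smul_apply, nsmul_eq_mul, smul_eq_mul]
  rw [e1, Core.classInner_sum_left] at h1
  have h2 : ∀ φ : IrrCharacter G, ∃ n : ℕ, classInner (fun s : S => (φ : G → ℂ) (i s)) θ = n := fun φ =>
    Core.classInner_isNat (Core.isCharacter_comp i (Core.isIrr_isCharacter φ.2)) (Core.isIrr_isCharacter hθ)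
  choose n hn using h2
  have h3 : ∑ φ : IrrCharacter G, m φ * n φ = 1 := by
    have h4 : ((∑ φ : IrrCharacter G, m φ * n φ : ℕ) : ℂ) = 1 := by
      rw [← h1]
      push_cast
      exact Finset.sum_congr rfl fun φ _ => by rw [Core.classInner_smul_left, hn]
    exact_mod_cast h4
  have hn1 : ∀ φ : IrrCharacter G, (∀ s, (φ : G → ℂ) (i s) = θ s) → n φ = 1 := by
    intro φ hφ
    have h5 := hn φ
    have h6 : (fun s : S => (φ : G → ℂ) (i s)) = θ := funext hφ
    rw [h6, Core.classInner_irr_self hθ] at h5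
    exact_mod_cast h5.symm
  have h7 : m χ ≠ 0 := fun h => hχπ (by rw [h, Nat.cast_zero])
  have h8 : m ψ ≠ 0 := fun h => hψπ (by rw [h, Nat.cast_zero])
  have h9 : m χ * n χ + m ψ * n ψ ≤ ∑ φ : IrrCharacter G, m φ * n φ := by
    have h10 := Finset.sum_pair (f := fun φ : IrrCharacter G => m φ * n φ) hne
    rw [← h10]
    exact Finset.sum_le_sum_of_subset (Finset.subset_univ _)
  rw [h3, hn1 χ hχ, hn1 ψ hψ] at h9
  omega

omit [Finite S] in
/-- a constituent which stays irreducible is a constituent of the restriction -/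
theorem const_res [Fintype S] [Fintype G] {π : G → ℂ} (hπ : IsCharacter G π) (Ψ : IrrCharacter G)
    (h : classInner π (Ψ : G → ℂ) ≠ 0) (hΨ : IsIrrCharacter S (fun s : S => (Ψ : G → ℂ) (i s))) :
    classInner (fun s : S => π (i s)) (fun s : S => (Ψ : G → ℂ) (i s)) ≠ 0 := by
  classical
  have : Finite (IrrCharacter G) := Core.finite_irr
  have := Fintype.ofFinite (IrrCharacter G)
  obtain ⟨m, rfl⟩ := Core.isCharacter_iff.1 hπ
  rw [Core.classInner_sum_nsmul_irr] at h
  have e1 : (fun s : S => (∑ φ : IrrCharacter G, m φ • (φ : G → ℂ)) (i s)) =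
      ∑ φ : IrrCharacter G, ((m φ : ℕ) : ℂ) • fun s : S => (φ : G → ℂ) (i s) := by
    funext s
    rw [Finset.sum_apply, Finset.sum_apply]
    exact Finset.sum_congr rfl fun φ _ => by
      rw [Pi.smul_apply, Pi.smul_apply, nsmul_eq_mul, smul_eq_mul]
  rw [e1, Core.classInner_sum_left]
  have h2 : ∀ φ : IrrCharacter G, ∃ n : ℕ,
      classInner (fun s : S => (φ : G → ℂ) (i s)) (fun s : S => (Ψ : G → ℂ) (i s)) = n := fun φ =>
    Core.classInner_isNat (Core.isCharacter_comp i (Core.isIrr_isCharacter φ.2)) (Core.isIrr_isCharacter hΨ)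
  choose n hn using h2
  have h3 : n Ψ = 1 := by
    have h5 := hn Ψ
    rw [Core.classInner_irr_self hΨ] at h5
    exact_mod_cast h5.symm
  have h4 : (∑ φ : IrrCharacter G, classInner (((m φ : ℕ) : ℂ) • fun s : S => (φ : G → ℂ) (i s))
      (fun s : S => (Ψ : G → ℂ) (i s))) = ((∑ φ : IrrCharacter G, m φ * n φ : ℕ) : ℂ) := by
    push_cast
    exact Finset.sum_congr rfl fun φ _ => by rw [Core.classInner_smul_left, hn]
  rw [h4]
  have h5 : m Ψ ≠ 0 := fun h6 => h (by rw [h6, Nat.cast_zero])
  have h6 : m Ψ * n Ψ ≤ ∑ φ : IrrCharacter G, m φ * n φ :=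
    Finset.single_le_sum (f := fun φ => m φ * n φ) (fun _ _ => Nat.zero_le _) (Finset.mem_univ Ψ)
  rw [h3, mul_one] at h6
  exact_mod_cast (Nat.pos_of_ne_zero h5).trans_le h6 |>.ne'

end virt

section value

variable {p : ℕ} {S : Type u} [Group S] [Fintype S] {A B : Subgroup (MulAut S)}

open Cfsg.Agent.H598.CY (inn)

/-- **the values on `A ∩ B` of the extension to `A`** -/
theorem value_eq (hA : ∀ s : S, MulAut.conj s ∈ A) (hB : ∀ s : S, MulAut.conj s ∈ B)
    {J : Type*} [Fintype J] (X : J → Type v) [∀ j, MulAction B (X j)] [∀ j, Finite (X j)] (ε : J → ℤ)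
    {Y : Type z} [Finite Y] [MulAction (MulAut S) Y]
    (hO : ∀ (j k : J) (a : B) (x : X j) (y : X k), ∃ s : S, inn hB s • x = a • x ∧ inn hB s • y = a • y)
    (hOY : ∀ (j : J) (a : B) (x : X j) (y : Y), ∃ s : S, inn hB s • x = a • x ∧ MulAut.conj s • y = (a : MulAut S) • y)
    (χ : IrrCharacter S) (hχ : ∀ s, (χ : S → ℂ) s = ((vp X ε (inn hB s) : ℤ) : ℂ))
    (hY : classInner (fun s : S => permC (MulAut S) Y (MulAut.conj s)) (χ : S → ℂ) = 1)
    (Ψ : IrrCharacter A) (hΨ : ∀ s, (Ψ : A → ℂ) (inn hA s) = (χ : S → ℂ) s) [Fintype A]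
    (hΨY : classInner (permC A Y) (Ψ : A → ℂ) ≠ 0) (a : A) (ha : (a : MulAut S) ∈ B) :
    (Ψ : A → ℂ) a = ((vp X ε (⟨a, ha⟩ : B) : ℤ) : ℂ) := by
  classical
  have hfS : Finite (MulAut S) := inferInstance
  set D : Subgroup (MulAut S) := A ⊓ B with hD
  have hDS : ∀ s : S, MulAut.conj s ∈ D := fun s => ⟨hA s, hB s⟩
  have : Finite D := inferInstance
  have := Fintype.ofFinite D
  let iD : S →* D := inn hDS
  let jA : D →* A := Subgroup.inclusion inf_le_left
  let jB : D →* B := Subgroup.inclusion inf_le_right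
  let act : ∀ j, MulAction D (X j) := fun j => MulAction.compHom (X j) jB
  have hvp : ∀ d : D, vp X ε d = vp X ε (jB d) := fun d => rfl
  have h1 : IsIrrCharacter D (fun d => ((vp X ε d : ℤ) : ℂ)) := by
    refine irr_vp iD X ε (fun j k d x y => ?_) ?_
    · exact hO j k (jB d) x y
    · have h2 : (fun s : S => ((vp X ε (iD s) : ℤ) : ℂ)) = (χ : S → ℂ) := by
        funext s
        rw [hχ]
        rfl
      rw [h2]
      exact χ.2
  have h3 : IsIrrCharacter D ((Ψ : A → ℂ) ∘ jA) := by
    refine Cfsg.Agent.CharactersDeep.MaxInduced.isIrr_of_comp iD (Core.isCharacter_comp jA (Core.isIrr_isCharacter Ψ.2)) ?_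
    have h4 : ((Ψ : A → ℂ) ∘ jA) ∘ iD = (χ : S → ℂ) := funext fun s => hΨ s
    rw [h4]
    exact χ.2
  have h5 : (⟨_, h1⟩ : IrrCharacter D) = ⟨_, h3⟩ := by
    refine eq_of_mult_one iD (isCharacter_permC (G := D) Y) χ.2 hY _ _ ?_ ?_ ?_ ?_
    · intro s
      exact (hχ s).symm
    · intro s
      exact hΨ s
    · have h6 := inner_vp_perm iD X ε Y (fun j d x y => hOY j (jB d) x y)
      intro h7
      have h8 : classInner (fun g : D => ((vp X ε g : ℤ) : ℂ)) (permC D Y) = 0 := by
        rw [← Core.classInner_conj_symm]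
        change (starRingEnd ℂ) (classInner (permC D Y) (fun d => ((vp X ε d : ℤ) : ℂ))) = 0
        rw [h7, map_zero]
      rw [h8] at h6
      have h9 : (fun s : S => ((vp X ε (iD s) : ℤ) : ℂ)) = (χ : S → ℂ) := by
        funext s
        rw [hχ]
        rfl
      rw [h9] at h6
      have h10 : classInner (fun s : S => permC D Y (iD s)) (χ : S → ℂ) = 1 := hY
      rw [← Core.classInner_conj_symm, h6, map_zero] at h10
      exact zero_ne_one h10
    · -- `Ψ` is a constituent of the permutation character of `A`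
      exact const_res jA (isCharacter_permC (G := A) Y) Ψ hΨY h3
  have h11 := congrArg (fun φ : IrrCharacter D => (φ : D → ℂ) ⟨a, a.2, ha⟩) h5
  exact h11.symm

end value

end Cfsg.Agent.H125.CY
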